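import Mathlib
import Groth.Prelude.Def_CAlgX

/-!
McCoy's theorem, the retraction lemma for rings in which proper f.g. ideals have nonzero
annihilator, and nonzerodivisors in ideals of Noetherian rings.
-/

open scoped Matrix

namespace Groth.Agent.McCoy

universe u

variable {R : Type u} [CommRing R]

lemma det_mem_minorIdeal {p q : Type} [Fintype p] [Fintype q] (A : Matrix p q R) {r : ℕ}
    (f : Fin r → p) (g : Fin r → q) : (A.submatrix f g).det ∈ CAlgX.minorIdeal A r :=
  Ideal.subset_span ⟨(f, g), rfl⟩

lemma mem_annihilator_minorIdeal {p q : Type} [Fintype p] [Fintype q] (A : Matrix p q R) {r : ℕ}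
    (a : R) : a ∈ (CAlgX.minorIdeal A r).annihilator ↔
      ∀ (f : Fin r → p) (g : Fin r → q), a * (A.submatrix f g).det = 0 := by
  rw [Submodule.mem_annihilator]
  refine ⟨fun h f g => h _ (det_mem_minorIdeal A f g), fun h x hx => ?_⟩
  induction hx using Submodule.span_induction with
  | mem x hx =>
    obtain ⟨⟨f, g⟩, rfl⟩ := hx
    exact h f g
  | zero => simp
  | add x y _ _ hx hy => rw [smul_add, hx, hy, add_zero]
  | smul c x _ hx => rw [smul_comm, hx, smul_zero]

lemma minorIdeal_eq_bot_of_lt {p : Type} [Fintype p] {m r : ℕ} (A : Matrix p (Fin m) R)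
    (h : m < r) : CAlgX.minorIdeal A r = ⊥ := by
  refine le_bot_iff.1 (Ideal.span_le.2 ?_)
  rintro _ ⟨⟨f, g⟩, rfl⟩
  obtain ⟨i, j, hij, hg⟩ := Fintype.exists_ne_map_eq_of_card_lt g (by simpa using h)
  exact Ideal.mem_bot.2 (Matrix.det_zero_of_column_eq hij fun k => by simp [hg])

/-- Each maximal minor kills a solution of `M x = 0`. -/
lemma det_smul_eq_zero {p : Type} [Fintype p] {m : ℕ} (M : Matrix p (Fin m) R) (f : Fin m → p)
    (x : Fin m → R) (hx : ∀ i, (M *ᵥ x) (f i) = 0) : (M.submatrix f id).det • x = 0 := by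
  have h : M.submatrix f id *ᵥ x = 0 := by
    funext i
    simpa [Matrix.mulVec, dotProduct] using hx i
  calc (M.submatrix f id).det • x = ((M.submatrix f id).adjugate * M.submatrix f id) *ᵥ x := by
        rw [Matrix.adjugate_mul, Matrix.smul_mulVec, Matrix.one_mulVec]
    _ = 0 := by rw [← Matrix.mulVec_mulVec, h, Matrix.mulVec_zero]

lemma det_submatrix_perm {p : Type} [Fintype p] {m : ℕ} (M : Matrix p (Fin m) R) (f : Fin m → p)
    (g : Fin m → Fin m) : (M.submatrix f g).det ∈ Ideal.span {(M.submatrix f id).det} := by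
  classical
  by_cases hg : Function.Injective g
  · let e := Equiv.ofBijective g (Finite.injective_iff_bijective.1 hg)
    rw [show (M.submatrix f g).det = ((M.submatrix f id).submatrix id e).det from rfl,
      Matrix.det_permute']
    exact Ideal.mul_mem_left _ _ (Ideal.mem_span_singleton_self _)
  · simp only [Function.Injective, not_forall] at hg
    obtain ⟨i, j, hg, hij⟩ := hg
    have h0 : (M.submatrix f g).det = 0 :=
      Matrix.det_zero_of_column_eq hij fun k => by simp [hg]
    rw [h0]
    exact Submodule.zero_mem _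

lemma minorIdeal_max_eq_span {p : Type} [Fintype p] {m : ℕ} (M : Matrix p (Fin m) R) :
    CAlgX.minorIdeal M m = Ideal.span (Set.range fun f : Fin m → p => (M.submatrix f id).det) := by
  refine le_antisymm (Ideal.span_le.2 ?_) (Ideal.span_le.2 ?_)
  · rintro _ ⟨⟨f, g⟩, rfl⟩
    have h1 : Ideal.span {(M.submatrix f id).det} ≤
        Ideal.span (Set.range fun f : Fin m → p => (M.submatrix f id).det) :=
      Ideal.span_le.2 (Set.singleton_subset_iff.2 (Ideal.subset_span ⟨f, rfl⟩))
    exact h1 (det_submatrix_perm M f g)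
  · rintro _ ⟨f, rfl⟩
    exact det_mem_minorIdeal M f id

/-- McCoy's theorem. -/
theorem injective_iff {p : Type} [Fintype p] {m : ℕ} (M : Matrix p (Fin m) R) :
    Function.Injective (Matrix.mulVecLin M) ↔ (CAlgX.minorIdeal M m).annihilator = ⊥ := by
  classical
  constructor
  · intro hinj
    rw [eq_bot_iff]
    intro a ha
    rw [Ideal.mem_bot]
    by_contra ha0
    -- `a` kills the minors of size `m`; take the largest size whose minors it does not kill
    let P : ℕ → Prop := fun r => ∃ (f : Fin r → p) (g : Fin r → Fin m),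
      a * (M.submatrix f g).det ≠ 0
    have hP0 : P 0 := ⟨Fin.elim0, Fin.elim0, by simpa [Matrix.det_fin_zero] using ha0⟩
    have hPm : ¬ P m := fun ⟨f, g, h⟩ => h ((mem_annihilator_minorIdeal M a).1 ha f g)
    let r := Nat.findGreatest P m
    have hr : P r := Nat.findGreatest_spec (Nat.zero_le _) hP0
    have hrm : r < m := lt_of_le_of_ne (Nat.findGreatest_le m) fun h => hPm (h ▸ hr)
    have hr1 : ¬ P (r + 1) := Nat.findGreatest_is_greatest (Nat.lt_succ_self _) hrm
    obtain ⟨f, g, hfg⟩ := hr
    have hg : Function.Injective g := by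
      intro i j hij
      by_contra hne
      have h0 : (M.submatrix f g).det = 0 :=
        Matrix.det_zero_of_column_eq hne fun k => by simp [hij]
      exact hfg (by rw [h0, mul_zero])
    obtain ⟨c, hc⟩ : ∃ c, c ∉ Set.range g := by
      by_contra! h
      have h' : Function.Surjective g := h
      have := Fintype.card_le_of_surjective g h'
      simp at this; omega
    let g' : Fin (r + 1) → Fin m := Fin.snoc g c
    let x : Fin m → R := ∑ l : Fin (r + 1),
      Pi.single (g' l) (a * ((-1 : R) ^ (r + (l : ℕ)) * (M.submatrix f (g' ∘ l.succAbove)).det))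
    have hx : M.mulVecLin x = 0 := by
      funext i
      rw [Matrix.mulVecLin_apply, Pi.zero_apply]
      have hdet : a * (M.submatrix (Fin.snoc f i) g').det = 0 := by
        by_contra h
        exact hr1 ⟨_, _, h⟩
      rw [Matrix.det_succ_row _ (Fin.last r), Finset.mul_sum] at hdet
      simp only [x, Matrix.mulVec_sum, Finset.sum_apply, Matrix.mulVec_single]
      rw [← hdet]
      refine Finset.sum_congr rfl fun l _ => ?_
      simp only [Matrix.submatrix_apply, Fin.snoc_last, Fin.val_last, Matrix.submatrix_submatrix,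
        Fin.succAbove_last, Fin.snoc_comp_castSucc]
      simp
      ring
    have hxc : x c = a * (M.submatrix f g).det := by
      simp only [x, Finset.sum_apply]
      rw [Finset.sum_eq_single (Fin.last r)]
      · simp [g', Fin.succAbove_last, Fin.snoc_comp_castSucc]
      · intro l _ hl
        obtain ⟨l, rfl⟩ := Fin.exists_castSucc_eq.2 hl
        exact Pi.single_eq_of_ne (fun h => hc ⟨l, by simpa [g'] using h.symm⟩) _
      · exact fun h => absurd (Finset.mem_univ _) h
    have hx0 : x = 0 := hinj (hx.trans (map_zero _).symm)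
    exact hfg (by rw [← hxc, hx0, Pi.zero_apply])
  · intro h
    rw [injective_iff_map_eq_zero]
    intro x hx
    funext j
    have hx' : x j ∈ (CAlgX.minorIdeal M m).annihilator := by
      rw [minorIdeal_max_eq_span, Submodule.mem_annihilator]
      intro y hy
      induction hy using Submodule.span_induction with
      | mem y hy =>
        obtain ⟨f, rfl⟩ := hy
        rw [smul_eq_mul, mul_comm]
        exact congrFun (det_smul_eq_zero M f x fun i => congrFun hx (f i)) j
      | zero => simp
      | add y z _ _ hy hz => rw [smul_add, hy, hz, add_zero]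
      | smul c y _ hy => rw [smul_comm, hy, smul_zero]
    rw [h, Ideal.mem_bot] at hx'
    exact hx'

theorem minorIdeal_ne_bot [Nontrivial R] {p : Type} [Fintype p] {m : ℕ} (M : Matrix p (Fin m) R)
    (h : (CAlgX.minorIdeal M m).annihilator = ⊥) : CAlgX.minorIdeal M m ≠ ⊥ := by
  intro h0
  rw [h0, Submodule.annihilator_bot] at h
  exact top_ne_bot h

theorem matrixRank_eq [Nontrivial R] {p : Type} [Fintype p] {m : ℕ} (M : Matrix p (Fin m) R)
    (h : (CAlgX.minorIdeal M m).annihilator = ⊥) : CAlgX.matrixRank M = m := by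
  refine le_antisymm (csSup_le ⟨m, minorIdeal_ne_bot M h⟩ fun r hr => ?_)
    (le_csSup ⟨m, fun r hr => ?_⟩ (minorIdeal_ne_bot M h)) <;>
  · by_contra hlt
    exact hr (minorIdeal_eq_bot_of_lt M (not_le.1 hlt))

theorem injective_iff_rank [Nontrivial R] {p : Type} [Fintype p] {m : ℕ}
    (M : Matrix p (Fin m) R) : Function.Injective (Matrix.mulVecLin M) ↔
      CAlgX.matrixRank M = m ∧ (CAlgX.detIdeal M).annihilator = ⊥ := by
  rw [injective_iff, CAlgX.detIdeal]
  constructor
  · intro h
    have := matrixRank_eq M h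
    exact ⟨this, by rw [this]; exact h⟩
  · rintro ⟨h1, h2⟩
    rwa [h1] at h2

/-- In a Noetherian ring an ideal with zero annihilator contains a nonzerodivisor. -/
theorem exists_nonZeroDivisor [IsNoetherianRing R] {I : Ideal R} (h : I.annihilator = ⊥) :
    ∃ x ∈ I, x ∈ nonZeroDivisors R := by
  rcases subsingleton_or_nontrivial R with hs | hn
  · exact ⟨0, I.zero_mem, by simp [mem_nonZeroDivisors_iff_right, Subsingleton.elim _ (0 : R)]⟩
  by_contra hne
  push Not at hne
  have hsub : (I : Set R) ⊆ ⋃ p ∈ (associatedPrimes.finite R R).toFinset, ((p : Ideal R) : Set R) := by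
    intro x hx
    have h1 : x ∉ nonZeroDivisors R := hne x hx
    rw [mem_nonZeroDivisors_iff_right] at h1
    push Not at h1
    obtain ⟨y, hy, hy0⟩ := h1
    have h2 : x ∈ ⋃ p ∈ associatedPrimes R R, (p : Set R) := by
      rw [biUnion_associatedPrimes_eq_zero_divisors R R]
      exact ⟨y, hy0, by simpa [mul_comm] using hy⟩
    simpa using h2
  obtain ⟨p, hp, hle⟩ := (Ideal.subset_union_prime ⊥ ⊥
    (fun p hp _ _ => IsAssociatedPrime.isPrime ((associatedPrimes.finite R R).mem_toFinset.1 hp))).1 hsub
  obtain ⟨hpp, y, hy⟩ := isAssociatedPrime_iff.1 ((associatedPrimes.finite R R).mem_toFinset.1 hp)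
  have hy' : y ∈ I.annihilator := by
    rw [Submodule.mem_annihilator]
    intro z hz
    have := hle hz
    rw [hy, Submodule.mem_colon_singleton, Submodule.mem_bot] at this
    simpa [mul_comm] using this
  rw [h, Ideal.mem_bot] at hy'
  apply hpp.ne_top
  rw [hy, hy', Ideal.eq_top_iff_one, Submodule.mem_colon_singleton]
  simp

lemma minorIdeal_fg {p q : Type} [Fintype p] [Fintype q] (A : Matrix p q R) (r : ℕ) :
    (CAlgX.minorIdeal A r).FG :=
  Submodule.fg_span (Set.finite_range _)

/-- If the maximal minors generate the unit ideal, there is a left inverse. -/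
theorem exists_leftInverse {p : Type} [Fintype p] {m : ℕ} (M : Matrix p (Fin m) R)
    (h : CAlgX.minorIdeal M m = ⊤) :
    ∃ L : (p → R) →ₗ[R] (Fin m → R), L ∘ₗ M.mulVecLin = LinearMap.id := by
  classical
  let LL : ((p → R) →ₗ[R] (Fin m → R)) →ₗ[R] ((Fin m → R) →ₗ[R] (Fin m → R)) :=
    LinearMap.lcomp R (Fin m → R) M.mulVecLin
  let J : Ideal R := (LinearMap.range LL).comap (LinearMap.toSpanSingleton R _ LinearMap.id)
  have hJ : CAlgX.minorIdeal M m ≤ J := by
    rw [minorIdeal_max_eq_span, Ideal.span_le]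
    rintro _ ⟨f, rfl⟩
    refine ⟨(M.submatrix f id).adjugate.mulVecLin ∘ₗ LinearMap.funLeft R R f, ?_⟩
    refine LinearMap.ext fun x => ?_
    have h1 : LinearMap.funLeft R R f (M *ᵥ x) = M.submatrix f id *ᵥ x := rfl
    simp only [LL, LinearMap.lcomp_apply, LinearMap.coe_comp, Function.comp_apply,
      Matrix.mulVecLin_apply, h1, Matrix.mulVec_mulVec, Matrix.adjugate_mul, Matrix.smul_mulVec,
      Matrix.one_mulVec, LinearMap.toSpanSingleton_apply, LinearMap.smul_apply, LinearMap.id_coe,
      id_eq]
  obtain ⟨L, hL⟩ : (1 : R) ∈ J := hJ (h ▸ Submodule.mem_top)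
  refine ⟨L, ?_⟩
  show LL L = LinearMap.id
  simpa using hL

/-- Rings in which proper f.g. ideals have nonzero annihilator: injective maps of finite free
modules split. -/
theorem exists_retraction_free {ι κ : Type*} [Finite ι] [Finite κ]
    (hP : ∀ I : Ideal R, I.FG → I ≠ ⊤ → I.annihilator ≠ ⊥)
    (f : (ι → R) →ₗ[R] (κ → R)) (hf : Function.Injective f) :
    ∃ L : (κ → R) →ₗ[R] (ι → R), L ∘ₗ f = LinearMap.id := by
  classical
  obtain ⟨a, ⟨e⟩⟩ := Finite.exists_equiv_fin ι
  obtain ⟨b, ⟨e'⟩⟩ := Finite.exists_equiv_fin κ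
  let ea := LinearEquiv.funCongrLeft R R e
  let eb := LinearEquiv.funCongrLeft R R e'
  let g : (Fin a → R) →ₗ[R] (Fin b → R) :=
    eb.symm.toLinearMap ∘ₗ f ∘ₗ ea.toLinearMap
  have hg : Function.Injective (LinearMap.toMatrix' g).mulVecLin := by
    rw [← Matrix.toLin'_apply', Matrix.toLin'_toMatrix']
    exact eb.symm.injective.comp (hf.comp ea.injective)
  obtain ⟨L, hL⟩ := exists_leftInverse (LinearMap.toMatrix' g) (by
    by_contra hne
    exact hP _ (minorIdeal_fg _ _) hne ((injective_iff _).1 hg))
  rw [← Matrix.toLin'_apply', Matrix.toLin'_toMatrix'] at hL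
  refine ⟨ea.toLinearMap ∘ₗ L ∘ₗ eb.symm.toLinearMap, LinearMap.ext fun x => ?_⟩
  have := LinearMap.congr_fun hL (ea.symm x)
  simp only [g, LinearMap.coe_comp, LinearEquiv.coe_coe, Function.comp_apply,
    LinearEquiv.apply_symm_apply, LinearMap.id_coe, id_eq] at this ⊢
  rw [this, LinearEquiv.apply_symm_apply]

/-- An injective map of projective modules is split on any finite set of elements. -/
theorem exists_partial_retraction (hP : ∀ I : Ideal R, I.FG → I ≠ ⊤ → I.annihilator ≠ ⊥)
    {N M : Type u} [AddCommGroup N] [Module R N] [Module.Projective R N] [AddCommGroup M]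
    [Module R M] [Module.Projective R M] (u : N →ₗ[R] M) (hu : Function.Injective u)
    (s : Finset N) : ∃ L : M →ₗ[R] N, ∀ x ∈ s, L (u x) = x := by
  classical
  obtain ⟨i, hi⟩ := Module.projective_def'.1 (inferInstance : Module.Projective R N)
  obtain ⟨j, hj⟩ := Module.projective_def'.1 (inferInstance : Module.Projective R M)
  let p : (N →₀ R) →ₗ[R] N := Finsupp.linearCombination R id
  let q : (M →₀ R) →ₗ[R] M := Finsupp.linearCombination R id
  have hpi : ∀ x, p (i x) = x := LinearMap.congr_fun hi
  have hqj : ∀ x, q (j x) = x := LinearMap.congr_fun hj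
  let S : Finset N := s.biUnion fun x => (i x).support
  -- the finite pieces of the codomains
  let T : Finset M := S.biUnion fun a => (j (u (p (Finsupp.single a 1)))).support
  let S' : Finset N :=
    S ∪ S.biUnion fun a => (Finsupp.single a (1 : R) - i (p (Finsupp.single a 1))).support
  let inc : (S → R) →ₗ[R] (N →₀ R) := Fintype.linearCombination R fun a => Finsupp.single (a : N) 1
  let resT : (M →₀ R) →ₗ[R] (T → R) := LinearMap.pi fun t => Finsupp.lapply (t : M)
  let resS : (N →₀ R) →ₗ[R] (S' → R) := LinearMap.pi fun t => Finsupp.lapply (t : N)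
  let A : (S → R) →ₗ[R] (M →₀ R) := j ∘ₗ u ∘ₗ p ∘ₗ inc
  let B : (S → R) →ₗ[R] (N →₀ R) := inc - i ∘ₗ p ∘ₗ inc
  let U : (S → R) →ₗ[R] ((T ⊕ S' : Type u) → R) :=
    (LinearEquiv.sumArrowLequivProdArrow T S' R R).symm.toLinearMap ∘ₗ
      (resT ∘ₗ A).prod (resS ∘ₗ B)
  have hA : ∀ z, ∀ t ∉ T, A z t = 0 := by
    intro z t ht
    simp only [A, inc, LinearMap.coe_comp, Function.comp_apply, Fintype.linearCombination_apply,
      map_sum, map_smul, Finsupp.coe_finsetSum, Finset.sum_apply, Finsupp.coe_smul, Pi.smul_apply]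
    refine Finset.sum_eq_zero fun a _ => ?_
    rw [Finsupp.notMem_support_iff.1 fun h => ht (Finset.mem_biUnion.2 ⟨a, a.2, h⟩), smul_zero]
  have hB : ∀ z, ∀ t ∉ S', B z t = 0 := by
    intro z t ht
    simp only [B, inc, LinearMap.sub_apply, LinearMap.coe_comp, Function.comp_apply,
      Fintype.linearCombination_apply, map_sum, map_smul, ← Finset.sum_sub_distrib, ← smul_sub,
      Finsupp.coe_finsetSum, Finset.sum_apply, Finsupp.coe_smul, Pi.smul_apply]
    refine Finset.sum_eq_zero fun a _ => ?_
    rw [Finsupp.notMem_support_iff.1 fun h =>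
      ht (Finset.mem_union_right _ (Finset.mem_biUnion.2 ⟨a, a.2, h⟩)), smul_zero]
  have hinc : Function.Injective inc := by
    intro z z' h
    funext a
    have := DFunLike.congr_fun h (a : N)
    simpa [inc, Fintype.linearCombination_apply, Finsupp.single_apply, Subtype.coe_inj,
      Finsupp.coe_finsetSum, Finset.sum_apply] using this
  have hU : Function.Injective U := by
    rw [injective_iff_map_eq_zero]
    intro z hz
    have hz' : (resT ∘ₗ A).prod (resS ∘ₗ B) z = 0 :=
      (LinearEquiv.map_eq_zero_iff _).1 (show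
        (LinearEquiv.sumArrowLequivProdArrow T S' R R).symm ((resT ∘ₗ A).prod (resS ∘ₗ B) z) = 0
          from hz)
    have hAz : A z = 0 := by
      ext t
      by_cases ht : t ∈ T
      · exact congrFun (congrArg Prod.fst hz') ⟨t, ht⟩
      · exact hA z t ht
    have hBz : B z = 0 := by
      ext t
      by_cases ht : t ∈ S'
      · exact congrFun (congrArg Prod.snd hz') ⟨t, ht⟩
      · exact hB z t ht
    have h1 : p (inc z) = 0 := hu ((map_zero u).symm ▸ by
      have := congrArg q hAz
      simpa [A, hqj] using this)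
    apply hinc
    simpa [B, h1] using hBz
  obtain ⟨L, hL⟩ := exists_retraction_free hP U hU
  refine ⟨p ∘ₗ inc ∘ₗ L ∘ₗ (LinearEquiv.sumArrowLequivProdArrow T S' R R).symm.toLinearMap ∘ₗ
    LinearMap.inl R (T → R) (S' → R) ∘ₗ resT ∘ₗ j, fun x hx => ?_⟩
  let z : S → R := fun a => i x a
  have hz : inc z = i x := by
    ext t
    simp only [inc, z, Fintype.linearCombination_apply, Finsupp.coe_finsetSum, Finset.sum_apply,
      Finsupp.coe_smul, Pi.smul_apply, Finsupp.single_apply, smul_eq_mul]
    by_cases ht : t ∈ S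
    · rw [Finset.sum_eq_single (⟨t, ht⟩ : S)]
      · simp
      · intro a _ ha
        rw [if_neg fun h => ha (Subtype.ext h), mul_zero]
      · exact fun h => absurd (Finset.mem_univ _) h
    · rw [Finset.sum_eq_zero fun (a : S) _ => by rw [if_neg (fun h : (a : N) = t => ht (h ▸ a.2)), mul_zero]]
      exact (Finsupp.notMem_support_iff.1 fun h => ht (Finset.mem_biUnion.2 ⟨x, hx, h⟩)).symm
  have hUz : U z = (LinearEquiv.sumArrowLequivProdArrow T S' R R).symm (resT (j (u x)), 0) := by
    simp [U, A, B, hz, hpi]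
  have hLz := LinearMap.congr_fun hL z
  simp only [LinearMap.coe_comp, Function.comp_apply, hUz, LinearMap.id_coe, id_eq] at hLz
  simp only [LinearMap.coe_comp, Function.comp_apply, LinearEquiv.coe_coe, LinearMap.inl_apply]
  rw [hLz, hz, hpi]

end Groth.Agent.McCoy
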