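import Groth.Agent.McCoy.Resolution
import Groth.Agent.S12906
import Groth.Prelude.Def_CAlg

/-!
Lemmas for the Hilbert–Burch theorem and its converse.
-/

open scoped Matrix

namespace Groth.Agent.McCoy

universe u

variable {R : Type u} [CommRing R] {t : ℕ} (Ψ : Matrix (Fin (t + 1)) (Fin t) R)

/-- The signed maximal minors. -/
def delta : Fin (t + 1) → R := fun i => (-1 : R) ^ (i : ℕ) * (Ψ.submatrix i.succAbove id).det

lemma sum_delta_mulVec (w : Fin t → R) : ∑ i, delta Ψ i * (Ψ *ᵥ w) i = 0 := by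
  simp only [Matrix.mulVec, dotProduct, Finset.mul_sum]
  rw [Finset.sum_comm]
  refine Finset.sum_eq_zero fun j _ => ?_
  simp only [delta, ← mul_assoc, ← Finset.sum_mul]
  rw [S12906.result t Ψ j, zero_mul]

lemma minorIdeal_eq_span_delta : CAlgX.minorIdeal Ψ t = Ideal.span (Set.range (delta Ψ)) := by
  refine le_antisymm (Ideal.span_le.2 ?_) (Ideal.span_le.2 ?_)
  · rintro _ ⟨⟨f, g⟩, rfl⟩
    by_cases hf : Function.Injective f
    · obtain ⟨c, hc⟩ : ∃ c, c ∉ Set.range f := by
        by_contra! h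
        have h' : Function.Surjective f := h
        have := Fintype.card_le_of_surjective f h'
        simp at this
      choose e he using fun l => Fin.exists_succAbove_eq fun h => hc ⟨l, h⟩
      have hfe : f = c.succAbove ∘ e := funext fun l => (he l).symm
      have he' : Function.Injective e := fun a b hab => hf (by rw [hfe]; simp [hab])
      let π := Equiv.ofBijective e (Finite.injective_iff_bijective.1 he')
      have h1 : Ψ.submatrix f g = ((Ψ.submatrix c.succAbove id).submatrix id g).submatrix π id := by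
        rw [Matrix.submatrix_submatrix, Matrix.submatrix_submatrix, hfe]; rfl
      show (Ψ.submatrix f g).det ∈ Ideal.span (Set.range (delta Ψ))
      rw [h1, Matrix.det_permute]
      refine Ideal.mul_mem_left _ _ ?_
      rw [Matrix.submatrix_submatrix, Function.comp_id, Function.id_comp]
      have h2 : Ideal.span {(Ψ.submatrix c.succAbove id).det} ≤ Ideal.span (Set.range (delta Ψ)) := by
        rw [Ideal.span_le, Set.singleton_subset_iff, SetLike.mem_coe,
          show (Ψ.submatrix c.succAbove id).det = (-1 : R) ^ (c : ℕ) * delta Ψ c by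
            simp [delta, ← mul_assoc, ← mul_pow]]
        exact Ideal.mul_mem_left _ _ (Ideal.subset_span ⟨c, rfl⟩)
      exact h2 (det_submatrix_perm Ψ c.succAbove g)
    · simp only [Function.Injective, not_forall] at hf
      obtain ⟨a, b, hab, hne⟩ := hf
      have h0 : (Ψ.submatrix f g).det = 0 :=
        Matrix.det_zero_of_row_eq hne (funext fun k => by simp [hab])
      show (Ψ.submatrix f g).det ∈ Ideal.span (Set.range (delta Ψ))
      rw [h0]
      exact Submodule.zero_mem _
  · rintro _ ⟨i, rfl⟩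
    exact Ideal.mul_mem_left _ _ (det_mem_minorIdeal Ψ _ _)

/-- A vector orthogonal to the signed minors is, up to a square of any of them, in the range. -/
lemma delta_sq_smul_mem_range (v : Fin (t + 1) → R) (hv : ∑ i, delta Ψ i * v i = 0)
    (k : Fin (t + 1)) : (delta Ψ k) ^ 2 • v ∈ LinearMap.range Ψ.mulVecLin := by
  set D := (Ψ.submatrix k.succAbove id).det with hD
  let w : Fin t → R := (Ψ.submatrix k.succAbove id).adjugate *ᵥ (v ∘ k.succAbove)
  let r : Fin (t + 1) → R := D • v - Ψ *ᵥ w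
  have hr : ∀ l, r (k.succAbove l) = 0 := by
    intro l
    have h1 : (Ψ *ᵥ w) (k.succAbove l) = (Ψ.submatrix k.succAbove id *ᵥ w) l := rfl
    simp only [r, Pi.sub_apply, Pi.smul_apply, h1]
    simp [w, Matrix.mulVec_mulVec, Matrix.mul_adjugate, Matrix.smul_mulVec, ← hD]
  have h2 : ∑ i, delta Ψ i * r i = 0 := by
    simp only [r, Pi.sub_apply, Pi.smul_apply, mul_sub, Finset.sum_sub_distrib, sum_delta_mulVec,
      sub_zero, smul_eq_mul, mul_left_comm, ← Finset.mul_sum, hv, mul_zero]
  rw [Fin.sum_univ_succAbove _ k] at h2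
  simp only [hr, mul_zero, Finset.sum_const_zero, add_zero] at h2
  have h3 : delta Ψ k • r = 0 := by
    funext i
    induction i using Fin.succAboveCases k with
    | x => simpa using h2
    | p l => simp [hr]
  refine ⟨((-1 : R) ^ (k : ℕ) * delta Ψ k) • w, ?_⟩
  rw [map_smul, Matrix.mulVecLin_apply]
  have h4 : Ψ *ᵥ w = D • v - r := by simp [r]
  rw [h4, smul_sub, mul_smul _ (delta Ψ k) r, h3, smul_zero, sub_zero, smul_smul]
  congr 1
  simp only [delta, ← hD]
  ring_nf

/-- The ideal of scalars moving every vector orthogonal to the minors into the range. -/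
lemma exists_pow_smul_mem_range (v : Fin (t + 1) → R) (hv : ∑ i, delta Ψ i * v i = 0) {x : R}
    (hx : x ∈ CAlgX.minorIdeal Ψ t) : ∃ N : ℕ, x ^ N • v ∈ LinearMap.range Ψ.mulVecLin := by
  let J : Ideal R := (LinearMap.range Ψ.mulVecLin).comap (LinearMap.toSpanSingleton R _ v)
  suffices h : x ∈ J.radical by exact h
  rw [minorIdeal_eq_span_delta] at hx
  refine Ideal.span_le.2 ?_ hx
  rintro _ ⟨k, rfl⟩
  exact ⟨2, delta_sq_smul_mem_range Ψ v hv k⟩

/-- If `x` is a nonzerodivisor and `y` is one modulo `x`, the same holds for powers of `x`. -/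
lemma regular_mod_pow {x y : R} (hx : x ∈ nonZeroDivisors R)
    (hy : ∀ a : R, x ∣ y * a → x ∣ a) (n : ℕ) : ∀ a : R, x ^ n ∣ y * a → x ^ n ∣ a := by
  induction n with
  | zero => simp
  | succ n ih =>
    intro a ha
    obtain ⟨a', rfl⟩ := hy a ((dvd_pow_self x n.succ_ne_zero).trans ha)
    obtain ⟨b, hb⟩ := ha
    have h1 : y * a' = x ^ n * b := by
      rw [← mul_cancel_left_mem_nonZeroDivisors hx]
      rw [mul_left_comm, ← mul_assoc x, ← pow_succ']
      exact hb
    rw [pow_succ']
    exact mul_dvd_mul_left x (ih a' ⟨b, h1⟩)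

lemma regular_pow_mod_pow {x y : R} (hx : x ∈ nonZeroDivisors R)
    (hy : ∀ a : R, x ∣ y * a → x ∣ a) (n : ℕ) : ∀ (m : ℕ) (a : R), x ^ n ∣ y ^ m * a → x ^ n ∣ a := by
  intro m
  induction m with
  | zero => simp
  | succ m ih =>
    intro a ha
    refine regular_mod_pow hx hy n a (ih (y * a) ?_)
    rwa [← mul_assoc, ← pow_succ]

/-- The ideal is everything, or contains a regular pair. -/
def HasRegularPair (I : Ideal R) : Prop :=
  I = ⊤ ∨ ∃ x ∈ I, ∃ y ∈ I, x ∈ nonZeroDivisors R ∧ ∀ a : R, x ∣ y * a → x ∣ a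

lemma hasRegularPair_of_idealDepth {I : Ideal R} (h : 2 ≤ LocCoh.idealDepth I R) :
    HasRegularPair I := by
  classical
  rw [LocCoh.idealDepth] at h
  split_ifs at h with htop
  · exact Or.inl (by simpa using htop)
  obtain ⟨rs, hrs, hI, hlen⟩ : ∃ rs : List R, RingTheory.Sequence.IsWeaklyRegular R rs ∧
      (∀ r ∈ rs, r ∈ I) ∧ 2 ≤ rs.length := by
    by_contra! hne
    have h1 : (⨆ (rs : List R) (_ : RingTheory.Sequence.IsWeaklyRegular R rs ∧ ∀ r ∈ rs, r ∈ I),
        (rs.length : ℕ∞)) ≤ 1 := by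
      refine iSup₂_le fun rs hrs => ?_
      exact_mod_cast Nat.lt_succ_iff.1 (hne rs hrs.1 hrs.2)
    exact absurd (h.trans h1) (by norm_num)
  match rs, hlen with
  | x :: y :: rs, _ =>
    rw [RingTheory.Sequence.isWeaklyRegular_cons_iff, RingTheory.Sequence.isWeaklyRegular_cons_iff]
      at hrs
    refine Or.inr ⟨x, hI x (by simp), y, hI y (by simp), ?_, ?_⟩
    · rw [mem_nonZeroDivisors_iff_right]
      intro z hz
      exact hrs.1 (show x • z = x • 0 by rw [smul_zero, smul_eq_mul, mul_comm]; exact hz)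
    · intro a ha
      have h2 := (isSMulRegular_quotient_iff_mem_of_smul_mem _ _).1 hrs.2.1 a (by
        rw [Submodule.mem_smul_pointwise_iff_exists]
        obtain ⟨c, hc⟩ := ha
        exact ⟨c, Submodule.mem_top, hc.symm⟩)
      rw [Submodule.mem_smul_pointwise_iff_exists] at h2
      obtain ⟨c, -, hc⟩ := h2
      exact ⟨c, hc.symm⟩

lemma two_le_idealDepth {I : Ideal R} (h : HasRegularPair I) : 2 ≤ LocCoh.idealDepth I R := by
  classical
  rw [LocCoh.idealDepth]
  split_ifs with htop
  · exact le_top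
  rcases h with rfl | ⟨x, hxI, y, hyI, hx, hy⟩
  · simp at htop
  have hreg : RingTheory.Sequence.IsWeaklyRegular R [x, y] := by
    rw [RingTheory.Sequence.isWeaklyRegular_cons_iff,
      RingTheory.Sequence.isWeaklyRegular_singleton_iff]
    refine ⟨fun a b hab => (mul_cancel_left_mem_nonZeroDivisors hx).1 hab, ?_⟩
    rw [isSMulRegular_quotient_iff_mem_of_smul_mem]
    intro a ha
    rw [Submodule.mem_smul_pointwise_iff_exists] at ha ⊢
    obtain ⟨c, -, hc⟩ := ha
    obtain ⟨d, hd⟩ := hy a ⟨c, hc.symm⟩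
    exact ⟨d, Submodule.mem_top, hd.symm⟩
  exact le_iSup₂_of_le (f := fun (rs : List R)
    (_ : RingTheory.Sequence.IsWeaklyRegular R rs ∧ ∀ r ∈ rs, r ∈ I) => (rs.length : ℕ∞))
    [x, y] ⟨hreg, by simp [hxI, hyI]⟩ (by simp)

lemma annihilator_eq_bot_of_hasRegularPair {I : Ideal R} (h : HasRegularPair I) :
    I.annihilator = ⊥ := by
  rw [eq_bot_iff]
  intro a ha
  rw [Ideal.mem_bot]
  rcases h with rfl | ⟨x, hxI, -, -, hx, -⟩
  · simpa using Submodule.mem_annihilator.1 ha 1 Submodule.mem_top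
  · exact (mem_nonZeroDivisors_iff_right.1 hx) a (by simpa using Submodule.mem_annihilator.1 ha x hxI)

/-- Exactness in the middle. -/
theorem mem_range_of_hasRegularPair (h : HasRegularPair (CAlgX.minorIdeal Ψ t))
    (v : Fin (t + 1) → R) (hv : ∑ i, delta Ψ i * v i = 0) : v ∈ LinearMap.range Ψ.mulVecLin := by
  have hinj := (injective_iff Ψ).2 (annihilator_eq_bot_of_hasRegularPair h)
  rcases h with htop | ⟨x, hxI, y, hyI, hx, hy⟩
  · obtain ⟨N, hN⟩ := exists_pow_smul_mem_range Ψ v hv (htop ▸ Submodule.mem_top : (1 : R) ∈ _)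
    simpa using hN
  obtain ⟨N, p, hp⟩ := exists_pow_smul_mem_range Ψ v hv hxI
  obtain ⟨m, q, hq⟩ := exists_pow_smul_mem_range Ψ v hv hyI
  have h1 : y ^ m • p = x ^ N • q := hinj (by rw [map_smul, map_smul, hp, hq, smul_comm])
  choose p' hp' using fun j => regular_pow_mod_pow hx hy N m (p j) ⟨q j, congrFun h1 j⟩
  refine ⟨p', ?_⟩
  funext i
  have hpp : p = x ^ N • p' := funext hp'
  have h2 := congrFun hp i
  rw [hpp, map_smul] at h2
  exact (mul_cancel_left_mem_nonZeroDivisors (pow_mem hx N)).1 h2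

end Groth.Agent.McCoy
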