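import Groth.Agent.McCoy.Basic

/-!
Ideals with a finite free resolution over a Noetherian ring.
-/

open scoped Matrix

namespace Groth.Agent.McCoy

universe u

variable {R : Type u} [CommRing R]

lemma map_mulVec_eq {p q : Type*} [Fintype q] {S : Type u} [CommRing S] (f : R →+* S)
    (A : Matrix p q R) (v : q → R) : A.map f *ᵥ (fun i => f (v i)) = fun i => f ((A *ᵥ v) i) := by
  funext i
  simp [Matrix.mulVec, dotProduct, map_sum]

/-- Localization of matrices preserves exactness. -/
lemma exact_map {p q r : Type*} [Finite p] [Fintype q] [Fintype r] {S : Type u} [CommRing S]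
    [Algebra R S] (T : Submonoid R) [IsLocalization T S] (A : Matrix p q R) (B : Matrix q r R)
    (h : LinearMap.ker A.mulVecLin = LinearMap.range B.mulVecLin) :
    LinearMap.ker (A.map (algebraMap R S)).mulVecLin =
      LinearMap.range (B.map (algebraMap R S)).mulVecLin := by
  classical
  have := Fintype.ofFinite p
  refine le_antisymm (fun v hv => ?_) ?_
  · obtain ⟨b, hb⟩ := IsLocalization.exist_integer_multiples T Finset.univ v
    choose w hw using fun i => hb i (Finset.mem_univ i)
    rw [LinearMap.mem_ker, Matrix.mulVecLin_apply] at hv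
    have hw' : (fun i => algebraMap R S (w i)) = algebraMap R S b • v := by
      funext i
      rw [hw i]
      simp [Algebra.smul_def]
    have h1 : ∀ i, algebraMap R S ((A *ᵥ w) i) = 0 := fun i => by
      rw [← congrFun (map_mulVec_eq (algebraMap R S) A w) i, hw', Matrix.mulVec_smul, hv, smul_zero]
      rfl
    choose c hc using fun i => (IsLocalization.map_eq_zero_iff T S _).1 (h1 i)
    let t : R := ∏ i, (c i : R)
    have h2 : t • w ∈ LinearMap.ker A.mulVecLin := by
      rw [LinearMap.mem_ker, Matrix.mulVecLin_apply, Matrix.mulVec_smul]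
      funext i
      rw [Pi.smul_apply, Pi.zero_apply, smul_eq_mul]
      simp only [t]
      rw [← Finset.prod_erase_mul _ _ (Finset.mem_univ i), mul_assoc, hc i, mul_zero]
    rw [h] at h2
    obtain ⟨z, hz⟩ := h2
    have htb : IsUnit (algebraMap R S (t * b)) :=
      IsLocalization.map_units S (⟨t * b, T.mul_mem (T.prod_mem fun i _ => (c i).2) b.2⟩ : T)
    obtain ⟨u, hu⟩ := htb.exists_left_inv
    refine ⟨u • fun i => algebraMap R S (z i), ?_⟩
    rw [map_smul, Matrix.mulVecLin_apply, map_mulVec_eq]
    funext i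
    have h3 := congrFun hz i
    rw [Matrix.mulVecLin_apply, Pi.smul_apply, smul_eq_mul] at h3
    rw [Pi.smul_apply, smul_eq_mul, h3, map_mul]
    have h4 := congrFun hw' i
    rw [Pi.smul_apply, smul_eq_mul] at h4
    rw [h4]
    rw [map_mul] at hu
    linear_combination (v i) * hu
  · rintro _ ⟨z, rfl⟩
    obtain ⟨b, hb⟩ := IsLocalization.exist_integer_multiples T Finset.univ z
    choose w hw using fun i => hb i (Finset.mem_univ i)
    have hw' : (fun i => algebraMap R S (w i)) = algebraMap R S b • z := by
      funext i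
      rw [hw i]
      simp [Algebra.smul_def]
    have h1 : A *ᵥ (B *ᵥ w) = 0 := by
      have : B.mulVecLin w ∈ LinearMap.ker A.mulVecLin := h ▸ ⟨w, rfl⟩
      exact this
    have h2 : (A.map (algebraMap R S)) *ᵥ ((B.map (algebraMap R S)) *ᵥ
        fun i => algebraMap R S (w i)) = 0 := by
      rw [map_mulVec_eq, map_mulVec_eq, h1]
      funext i; simp
    rw [hw', Matrix.mulVec_smul, Matrix.mulVec_smul] at h2
    rw [LinearMap.mem_ker, Matrix.mulVecLin_apply, Matrix.mulVecLin_apply]
    exact (IsUnit.smul_eq_zero (IsLocalization.map_units S b)).1 h2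

lemma ker_map {p q : Type*} [Finite p] [Fintype q] {S : Type u} [CommRing S] [Algebra R S]
    (T : Submonoid R) [IsLocalization T S] (A : Matrix p q R)
    (h : LinearMap.ker A.mulVecLin = ⊥) :
    LinearMap.ker (A.map (algebraMap R S)).mulVecLin = ⊥ := by
  rw [exact_map T A (Matrix.of fun (_ : q) (i : Fin 0) => Fin.elim0 i)
    (h.trans (eq_bot_iff.2 ?_).symm), eq_bot_iff]
  · rintro _ ⟨z, rfl⟩; simp [Matrix.mulVec_empty, Subsingleton.elim z 0]
  · rintro _ ⟨z, rfl⟩; simp [Subsingleton.elim z 0]

/-- Euler characteristic of a finite complex. -/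
def chi : ℕ → (ℕ → ℕ) → ℤ
  | 0, n => n 0
  | e + 1, n => n 0 - chi e (fun i => n (i + 1))

/-- Over a local ring in which proper f.g. ideals have nonzero annihilator, an exact finite free
complex has free cokernel of rank the Euler characteristic. -/
theorem free_coker {Q : Type u} [CommRing Q] [IsLocalRing Q]
    (hP : ∀ I : Ideal Q, I.FG → I ≠ ⊤ → I.annihilator ≠ ⊥) : ∀ (e : ℕ) (n : ℕ → ℕ)
    (A : (i : ℕ) → Matrix (Fin (n i)) (Fin (n (i + 1))) Q),
    (∀ i, i + 1 ≤ e → LinearMap.ker (A i).mulVecLin = LinearMap.range (A (i + 1)).mulVecLin) →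
    LinearMap.ker (A e).mulVecLin = ⊥ →
    Module.Free Q ((Fin (n 0) → Q) ⧸ LinearMap.range (A 0).mulVecLin) ∧
      (Module.finrank Q ((Fin (n 0) → Q) ⧸ LinearMap.range (A 0).mulVecLin) : ℤ) =
        chi (e + 1) n := by
  intro e
  -- a split injection of a finite free module
  have split : ∀ {m : ℕ} (C : Type u) [AddCommGroup C] [Module Q C] [Module.Free Q C]
      [Module.Finite Q C] (f : C →ₗ[Q] (Fin m → Q)), Function.Injective f →
      Module.Free Q ((Fin m → Q) ⧸ LinearMap.range f) ∧
        (Module.finrank Q ((Fin m → Q) ⧸ LinearMap.range f) : ℤ) = m - Module.finrank Q C := by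
    intro m C _ _ _ _ f hf
    let b := Module.Free.chooseBasis Q C
    obtain ⟨L, hL⟩ := exists_retraction_free hP (f ∘ₗ b.equivFun.symm.toLinearMap)
      (hf.comp b.equivFun.symm.injective)
    let r : (Fin m → Q) →ₗ[Q] C := b.equivFun.symm.toLinearMap ∘ₗ L
    have hr : ∀ c, r (f c) = c := fun c => by
      have := LinearMap.congr_fun hL (b.equivFun c)
      simp only [LinearMap.coe_comp, LinearEquiv.coe_coe, Function.comp_apply,
        LinearEquiv.symm_apply_apply, LinearMap.id_coe, id_eq] at this
      simp [r, this]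
    have hc : IsCompl (LinearMap.range f) (LinearMap.ker r) :=
      ⟨Submodule.disjoint_def.2 fun x hx hx' => by
        obtain ⟨c, rfl⟩ := hx
        rw [LinearMap.mem_ker, hr] at hx'
        rw [hx', map_zero],
      codisjoint_iff.2 (eq_top_iff.2 fun x _ => Submodule.mem_sup.2
        ⟨f (r x), ⟨_, rfl⟩, x - f (r x), by simp [hr], by abel⟩)⟩
    let eK := Submodule.quotientEquivOfIsCompl _ _ hc
    have : Module.Finite Q (LinearMap.ker r) := Module.Finite.equiv eK
    have : Module.Projective Q (LinearMap.ker r) :=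
      Module.Projective.of_split (LinearMap.ker r).subtype
        (Submodule.projectionOnto (LinearMap.ker r) (LinearMap.range f) hc.symm)
        (LinearMap.ext fun x => Submodule.projectionOnto_apply_left hc.symm x)
    have : Module.Free Q (LinearMap.ker r) := Module.free_of_flat_of_isLocalRing
    refine ⟨Module.Free.of_equiv eK.symm, ?_⟩
    rw [eK.finrank_eq]
    have h1 := (((LinearEquiv.ofInjective f hf).prodCongr (LinearEquiv.refl Q (LinearMap.ker r))).trans
      (Submodule.prodEquivOfIsCompl _ _ hc)).finrank_eq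
    rw [Module.finrank_prod, Module.finrank_pi, Fintype.card_fin] at h1
    omega
  induction e with
  | zero =>
    intro n A _ hlast
    obtain ⟨h1, h2⟩ := split (Fin (n 1) → Q) (A 0).mulVecLin (LinearMap.ker_eq_bot.1 hlast)
    exact ⟨h1, by rw [h2, Module.finrank_pi, Fintype.card_fin]; rfl⟩
  | succ e ih =>
    intro n A hA hlast
    obtain ⟨hfree, hrank⟩ := ih (fun i => n (i + 1)) (fun i => A (i + 1))
      (fun i hi => hA (i + 1) (by omega)) hlast
    have h0 := hA 0 (by omega)
    let f : ((Fin (n 1) → Q) ⧸ LinearMap.range (A 1).mulVecLin) →ₗ[Q] (Fin (n 0) → Q) :=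
      (LinearMap.range (A 1).mulVecLin).liftQ (A 0).mulVecLin h0.ge
    have hf : Function.Injective f :=
      LinearMap.ker_eq_bot.1 (Submodule.ker_liftQ_eq_bot _ _ _ h0.le)
    have hr : LinearMap.range f = LinearMap.range (A 0).mulVecLin := Submodule.range_liftQ _ _ _
    obtain ⟨h1, h2⟩ := split _ f hf
    rw [hr] at h1 h2
    refine ⟨h1, ?_⟩
    rw [h2, hrank]
    rfl

/-- An ideal of a Noetherian ring with a finite free resolution, if nonzero, contains a
nonzerodivisor. -/
theorem exists_nonZeroDivisor_of_resolution [IsNoetherianRing R]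
    (e : ℕ) (n : ℕ → ℕ) (A : (i : ℕ) → Matrix (Fin (n i)) (Fin (n (i + 1))) R)
    (π : (Fin (n 0) → R) →ₗ[R] R) (hI : LinearMap.range π ≠ ⊥)
    (h0 : LinearMap.ker π = LinearMap.range (A 0).mulVecLin)
    (hA : ∀ i, i + 1 ≤ e → LinearMap.ker (A i).mulVecLin = LinearMap.range (A (i + 1)).mulVecLin)
    (hlast : LinearMap.ker (A e).mulVecLin = ⊥) :
    ∃ x : R, x ∈ LinearMap.range π ∧ x ∈ nonZeroDivisors R := by
  classical
  apply exists_nonZeroDivisor (I := (LinearMap.range π : Ideal R))
  by_contra hann
  -- the matrix of `π`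
  let P : Matrix (Fin 1) (Fin (n 0)) R := Matrix.of fun _ j => π (Pi.single j 1)
  have hP : ∀ v, (P *ᵥ v) 0 = π v := fun v => by
    conv_rhs => rw [pi_eq_sum_univ' v]
    simp [P, Matrix.mulVec, dotProduct, map_sum, mul_comm]
  have hkerP : LinearMap.ker P.mulVecLin = LinearMap.range (A 0).mulVecLin := by
    rw [← h0]
    ext v
    simp only [LinearMap.mem_ker, Matrix.mulVecLin_apply, funext_iff, Fin.forall_fin_one, hP]
    rfl
  -- a key fact at each associated prime
  have key : ∀ (p : Ideal R) [p.IsPrime], p ∈ associatedPrimes R R →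
      ((LinearMap.range π : Ideal R) ≤ p → chi (e + 1) n = 0) ∧
      (chi (e + 1) n = 0 → ∀ v, ∃ s ∉ p, s * π v = 0) := by
    intro p _ hp
    obtain ⟨-, y, hy⟩ := isAssociatedPrime_iff.1 hp
    let Q := Localization.AtPrime p
    have hy0 : algebraMap R Q y ≠ 0 := by
      intro h
      obtain ⟨c, hc⟩ := (IsLocalization.map_eq_zero_iff p.primeCompl Q y).1 h
      apply c.2
      refine (SetLike.ext_iff.1 hy _).2 ?_
      rw [Submodule.mem_colon_singleton]
      simpa using hc
    have hmy : ∀ z ∈ IsLocalRing.maximalIdeal Q, z * algebraMap R Q y = 0 := by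
      intro z hz
      rw [← Localization.AtPrime.map_eq_maximalIdeal] at hz
      induction hz using Submodule.span_induction with
      | mem z hz =>
        obtain ⟨x, hx, rfl⟩ := hz
        rw [SetLike.mem_coe, hy, Submodule.mem_colon_singleton] at hx
        rw [← map_mul, show x * y = 0 by simpa using hx, map_zero]
      | zero => simp
      | add a b _ _ ha hb => rw [add_mul, ha, hb, add_zero]
      | smul c a _ ha => rw [smul_eq_mul, mul_assoc, ha, mul_zero]
    have hQ : ∀ I : Ideal Q, I.FG → I ≠ ⊤ → I.annihilator ≠ ⊥ := by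
      intro I _ hne hbot
      apply hy0
      rw [← Ideal.mem_bot, ← hbot, Submodule.mem_annihilator]
      intro z hz
      rw [smul_eq_mul, mul_comm]
      exact hmy z (IsLocalRing.le_maximalIdeal hne hz)
    obtain ⟨hfree, hrank⟩ := free_coker hQ e n (fun i => (A i).map (algebraMap R Q))
      (fun i hi => exact_map p.primeCompl _ _ (hA i hi)) (ker_map p.primeCompl _ hlast)
    have hex := exact_map (S := Q) p.primeCompl P (A 0) hkerP
    let g : ((Fin (n 0) → Q) ⧸ LinearMap.range ((A 0).map (algebraMap R Q)).mulVecLin) →ₗ[Q]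
        (Fin 1 → Q) :=
      (LinearMap.range ((A 0).map (algebraMap R Q)).mulVecLin).liftQ
        (P.map (algebraMap R Q)).mulVecLin hex.ge
    have hg : Function.Injective g :=
      LinearMap.ker_eq_bot.1 (Submodule.ker_liftQ_eq_bot _ _ _ hex.le)
    constructor
    · intro hle
      rw [← hrank, Nat.cast_eq_zero]
      by_contra hne
      let b := Module.Free.chooseBasis Q ((Fin (n 0) → Q) ⧸
        LinearMap.range ((A 0).map (algebraMap R Q)).mulVecLin)
      have hne' : Nonempty (Module.Free.ChooseBasisIndex Q ((Fin (n 0) → Q) ⧸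
          LinearMap.range ((A 0).map (algebraMap R Q)).mulVecLin)) := by
        rw [← Fintype.card_pos_iff, ← Module.finrank_eq_card_chooseBasisIndex]
        omega
      obtain ⟨i₀⟩ := hne'
      apply hy0
      have h1 : g (algebraMap R Q y • b i₀) = 0 := by
        obtain ⟨v, hv⟩ := Submodule.mkQ_surjective _ (b i₀)
        rw [map_smul, ← hv]
        funext j
        show algebraMap R Q y * ((P.map (algebraMap R Q)) *ᵥ v) j = 0
        rw [mul_comm]
        refine hmy _ ?_
        simp only [Matrix.mulVec, dotProduct]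
        refine Ideal.sum_mem _ fun k _ => Ideal.mul_mem_right _ _ ?_
        rw [← Localization.AtPrime.map_eq_maximalIdeal]
        exact Ideal.mem_map_of_mem _ (hle ⟨Pi.single k 1, rfl⟩)
      have h2 : algebraMap R Q y • b i₀ = 0 := hg (h1.trans (map_zero g).symm)
      have h3 := congrArg (fun c => b.repr c i₀) h2
      simp only [map_smul, map_zero, Finsupp.zero_apply, Finsupp.smul_apply, smul_eq_mul,
        Module.Basis.repr_self, Finsupp.single_eq_same, mul_one] at h3
      exact h3
    · intro hchi v
      rw [← hrank, Nat.cast_eq_zero] at hchi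
      have : Subsingleton ((Fin (n 0) → Q) ⧸
          LinearMap.range ((A 0).map (algebraMap R Q)).mulVecLin) :=
        (Module.finrank_eq_zero_iff_of_free _ _).1 hchi
      have h1 : (P.map (algebraMap R Q)) *ᵥ (fun i => algebraMap R Q (v i)) = 0 := by
        show g (Submodule.Quotient.mk (fun i => algebraMap R Q (v i))) = 0
        rw [Subsingleton.elim (Submodule.Quotient.mk (fun i => algebraMap R Q (v i))) 0, map_zero]
      rw [map_mulVec_eq] at h1
      have h2 := congrFun h1 0
      rw [hP] at h2
      obtain ⟨c, hc⟩ := (IsLocalization.map_eq_zero_iff p.primeCompl Q (π v)).1 h2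
      exact ⟨c, c.2, hc⟩
  -- a nonzero annihilator gives an associated prime containing the range
  obtain ⟨y, hy, hy0⟩ := (Submodule.ne_bot_iff _).1 hann
  obtain ⟨p, hp, hpy⟩ := exists_le_isAssociatedPrime_of_isNoetherianRing R y hy0
  have : p.IsPrime := IsAssociatedPrime.isPrime hp
  have hchi := (key p hp).1 fun z hz => hpy (by
    rw [Submodule.mem_colon_singleton, Submodule.mem_bot, smul_eq_mul, mul_comm]
    exact Submodule.mem_annihilator.1 hy z hz)
  -- a prime at which the range survives
  obtain ⟨x, ⟨v, rfl⟩, hx0⟩ := (Submodule.ne_bot_iff _).1 hI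
  obtain ⟨q, hq, hqx⟩ := exists_le_isAssociatedPrime_of_isNoetherianRing R (π v) hx0
  have : q.IsPrime := IsAssociatedPrime.isPrime hq
  obtain ⟨s, hs, hsv⟩ := (key q hq).2 hchi v
  exact hs (hqx (by rw [Submodule.mem_colon_singleton, Submodule.mem_bot, smul_eq_mul]; exact hsv))

end Groth.Agent.McCoy
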